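import Groth.Agent.Lib.GrpShEx23.Glue
import Groth.Prelude.Def_W4c1extbt15Mult

/-!
# Coordinates of powers
-/

set_option autoImplicit false
universe u v

open CategoryTheory MonoidalCategory CartesianMonoidalCategory MonObj

noncomputable section

namespace Groth.Agent.MultSch23

variable {C : Type u} [Category.{v} C] [CartesianMonoidalCategory C]

/-- The coordinates of a power. -/
def coord {M : C} : {n : ℕ} → Fin n → (MultSch.pow M n ⟶ M)
  | _ + 1, i => Fin.cases (fst M _) (fun l => snd M _ ≫ coord l) i

theorem comp_tuple {M T V : C} (g : V ⟶ T) : ∀ {n : ℕ} (x : Fin n → (T ⟶ M)),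
    g ≫ MultSch.tuple x = MultSch.tuple fun l => g ≫ x l
  | 0, _ => toUnit_unique _ _
  | n + 1, x => by
    show g ≫ lift (x 0) (MultSch.tuple fun i => x i.succ) = lift (g ≫ x 0) (MultSch.tuple fun i => g ≫ x i.succ)
    exact (comp_lift _ _ _).trans (by rw [comp_tuple g])

theorem tuple_coord {M : C} : ∀ n : ℕ, MultSch.tuple (fun l : Fin n => coord (M := M) l) = 𝟙 _
  | 0 => toUnit_unique _ _
  | n + 1 => by
    show lift (fst M _) (MultSch.tuple fun l => snd M _ ≫ coord l) = _
    rw [← comp_tuple, tuple_coord n, Category.comp_id, lift_fst_snd]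
    rfl

theorem tuple_comp_coord {M T : C} : ∀ {n : ℕ} (x : Fin n → (T ⟶ M)) (l : Fin n),
    MultSch.tuple x ≫ coord l = x l
  | n + 1, x, l => by
    refine Fin.cases ?_ (fun i => ?_) l
    · exact lift_fst _ _
    · show MultSch.tuple x ≫ snd M _ ≫ coord i = x i.succ
      rw [← Category.assoc]
      exact (congrArg (· ≫ coord i) (lift_snd _ _)).trans (tuple_comp_coord _ i)

variable [BraidedCategory C] {M N : C} [GrpObj M] [GrpObj N] {n : ℕ}

/-- The value of a morphism on points, slot by slot additive. -/
def val (φ : MultSch.pow M n ⟶ N) {T : C} (x : Fin n → (T ⟶ M)) : T ⟶ N := MultSch.tuple x ≫ φ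

theorem val_swap [IsCommMonObj N] (φ : MultSch.pow M n ⟶ N) (hm : MultSch.IsMultilinear φ) (ha : MultSch.IsAlternating φ)
    {T : C} (x : Fin n → (T ⟶ M)) (i j : Fin n) (hij : i ≠ j) :
    val φ (Function.update (Function.update x i (x j)) j (x i)) * val φ x = 1 := by
  classical
  let U : (T ⟶ M) → (T ⟶ M) → Fin n → (T ⟶ M) := fun a b => Function.update (Function.update x i a) j b
  have hcomm : ∀ a b, U a b = Function.update (Function.update x j b) i a := fun a b => Function.update_comm hij.symm b a x |>.symm
  have hself : ∀ a, val φ (U a a) = 1 := fun a =>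
    ha T _ i j hij (by simp [U, Function.update_self, Function.update_of_ne hij])
  have hj : ∀ a b c, val φ (U a (b * c)) = val φ (U a b) * val φ (U a c) := fun a b c =>
    hm T (Function.update x i a) j b c
  have hi : ∀ a b c, val φ (U (a * b) c) = val φ (U a c) * val φ (U b c) := fun a b c => by
    rw [hcomm, hcomm, hcomm]
    exact hm T (Function.update x j c) i a b
  have h := hself (x i * x j)
  rw [hi, hj, hj, hself, hself, _root_.one_mul, _root_.mul_one] at h
  rw [mul_comm, show x = U (x i) (x j) by simp [U]] at h ⊢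
  rw [mul_comm]
  simpa [U, Function.update_idem] using h

section Lifts
open AlgebraicGeometry

variable {S : Scheme.{u}} (K : Precoverage Scheme.{u}) [(QuotSh.J K S).Subcanonical]

/-- The sieve where finitely many points lift along a morphism. -/
def liftsSieve {G H T : Over S} {n : ℕ} (p : G ⟶ H) (x : Fin n → (T ⟶ H)) : Sieve T where
  arrows V g := ∀ l, GrpShEx23.liftSieve p (x l) g
  downward_closed := fun hg h l => (GrpShEx23.liftSieve p (x l)).downward_closed (hg l) h

theorem liftsSieve_mem {G H : Over S} [GrpObj G] [IsCommMonObj G] [GrpObj H] [IsCommMonObj H] (p : G ⟶ H)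
    [IsMonHom p] [Epi (CGrpSh.ptsMap K p)] {T : Over S} : ∀ {n : ℕ} (x : Fin n → (T ⟶ H)),
    liftsSieve p x ∈ QuotSh.J K S T
  | 0, x => by
    convert (QuotSh.J K S).top_mem T
    ext V g
    exact ⟨fun _ => trivial, fun _ l => l.elim0⟩
  | n + 1, x => by
    refine GrothendieckTopology.superset_covering _ ?_ (GrothendieckTopology.intersection_covering _
      (GrpShEx23.liftSieve_mem K p (x 0)) (liftsSieve_mem p fun l => x l.succ))
    rintro V g ⟨h0, hs⟩ l
    exact Fin.cases h0 hs l

end Lifts

end Groth.Agent.MultSch23
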